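import Groth.Agent.CohenLib.SmoothLift
import Mathlib.RingTheory.Smooth.Basic
import Mathlib.RingTheory.Smooth.Kaehler
import Mathlib.RingTheory.Kaehler.Polynomial
import Mathlib.RingTheory.Derivation.MapCoeffs
import Mathlib.RingTheory.Adjoin.Field
import Mathlib.Algebra.TrivSqZeroExt.Basic
import Mathlib.LinearAlgebra.TensorProduct.RightExactness

/-!
# Flat families over `k[τ]/(τ^(n+1))` with smooth central fibre
-/

set_option autoImplicit false
set_option linter.style.haveILetI false
set_option maxHeartbeats 1000000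

universe u

open Polynomial TensorProduct

namespace DefTruncLib

variable {k : Type u} [Field k] {n : ℕ} {D : Type u} [CommRing D] [Algebra k D]

/-- The base `D` is the ring of truncated polynomials in `τ`. -/
def IsTrunc (n : ℕ) (τ : D) : Prop :=
  Function.Surjective (aeval (R := k) τ) ∧ RingHom.ker (aeval (R := k) τ) = Ideal.span {(X : k[X]) ^ (n + 1)}

theorem isTrunc_of_equiv (τ : D) (e : (k[X] ⧸ Ideal.span {(X : k[X]) ^ (n + 1)}) ≃ₐ[k] D)
    (he : e (Ideal.Quotient.mk (Ideal.span {(X : k[X]) ^ (n + 1)}) X) = τ) : IsTrunc (k := k) n τ := by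
  have hπ : aeval (R := k) τ = e.toAlgHom.comp (Ideal.Quotient.mkₐ k _) :=
    Polynomial.algHom_ext (by rw [aeval_X]; exact he.symm)
  refine ⟨fun d => ?_, Ideal.ext fun f => ?_⟩
  · obtain ⟨f, hf⟩ := Ideal.Quotient.mk_surjective (e.symm d)
    exact ⟨f, by rw [hπ]; exact (congrArg e hf).trans (e.apply_symm_apply d)⟩
  · rw [RingHom.mem_ker, hπ]
    exact (map_eq_zero_iff e e.injective).trans Ideal.Quotient.eq_zero_iff_mem

variable {τ : D} {B : Type u} [CommRing B] [Algebra k B] [Algebra D B] [IsScalarTower k D B]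
  {t : B}

theorem pow_succ_eq_zero (hD : IsTrunc (k := k) n τ) (ht : t = algebraMap D B τ) : t ^ (n + 1) = 0 := by
  have h : aeval τ ((X : k[X]) ^ (n + 1)) = 0 := RingHom.mem_ker.1 (hD.2.ge (Ideal.mem_span_singleton_self _))
  rw [map_pow, aeval_X] at h
  rw [ht, ← map_pow, h, map_zero]

theorem formallySmooth (hD : IsTrunc (k := k) n τ) (ht : t = algebraMap D B τ) [Module.Flat D B]
    (hsm : Algebra.Smooth k (B ⧸ Ideal.span {t})) : Algebra.FormallySmooth D B := by
  have hle : RingHom.ker (aeval (R := k) τ) ≤ RingHom.ker (aeval (R := k) (0 : k)) := fun f hf => by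
    rw [hD.2, Ideal.mem_span_singleton] at hf
    obtain ⟨g, rfl⟩ := hf
    rw [RingHom.mem_ker, map_mul, map_pow, aeval_X, zero_pow (Nat.succ_ne_zero n), zero_mul]
  let ρ : D →+* k := RingHom.liftOfSurjective (aeval (R := k) τ).toRingHom hD.1
    ⟨(aeval (R := k) (0 : k)).toRingHom, hle⟩
  have hρf : ∀ f, ρ (aeval τ f) = aeval (R := k) (0 : k) f := fun f =>
    RingHom.liftOfRightInverse_comp_apply _ _ _ _ f
  have hρ : Function.Surjective ρ := fun c => ⟨aeval τ (C c), by rw [hρf, aeval_C]; rfl⟩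
  have hker : RingHom.ker ρ = Ideal.span {τ} := by
    refine le_antisymm (fun d hd => ?_) ((Ideal.span_singleton_le_iff_mem _).2 ?_)
    · obtain ⟨f, rfl⟩ := hD.1 d
      rw [RingHom.mem_ker, hρf, aeval_def, eval₂_at_zero] at hd
      obtain ⟨g, rfl⟩ := (X_dvd_iff (f := f)).2 hd
      exact Ideal.mem_span_singleton.2 ⟨aeval τ g, by rw [map_mul, aeval_X]⟩
    · rw [RingHom.mem_ker, ← aeval_X (R := k) τ, hρf, aeval_X]
  refine CohenLib.formallySmooth_of_flat_of_quotient ρ hρ (Ideal.Quotient.mk (Ideal.span {t}))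
    Ideal.Quotient.mk_surjective (RingHom.ext fun d => ?_) ⟨n + 1, ?_⟩ ?_
  · obtain ⟨f, rfl⟩ := hD.1 d
    show Ideal.Quotient.mk _ (algebraMap D B (aeval τ f)) = algebraMap k _ (ρ (aeval τ f))
    rw [hρf, ← aeval_algebraMap_apply, ← ht, ← Ideal.Quotient.mkₐ_eq_mk k, ← aeval_algHom_apply,
      Ideal.Quotient.mkₐ_eq_mk, Ideal.Quotient.eq_zero_iff_mem.2 (Ideal.mem_span_singleton_self t),
      ← aeval_algebraMap_apply, map_zero]
  · rw [hker, Ideal.span_singleton_pow, Ideal.zero_eq_bot, Ideal.span_singleton_eq_bot]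
    have h : aeval τ ((X : k[X]) ^ (n + 1)) = 0 := RingHom.mem_ker.1 (hD.2.ge (Ideal.mem_span_singleton_self _))
    rwa [map_pow, aeval_X] at h
  · rw [Ideal.mk_ker, hker, Ideal.map_span, Set.image_singleton, ht]

/-- A derivation to the reduction taking `t` to one. -/
theorem exists_derivation (hD : IsTrunc (k := k) n τ) (ht : t = algebraMap D B τ) [Algebra.FormallySmooth D B] :
    ∃ θ : Derivation k B (B ⧸ Ideal.span {t ^ n}), θ t = 1 := by
  classical
  let B' := B ⧸ Ideal.span {t ^ n}
  let E := TrivSqZeroExt B' B'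
  let tb : B' := Ideal.Quotient.mk _ t
  have htb : tb ^ n = 0 := by
    rw [← map_pow]
    exact Ideal.Quotient.eq_zero_iff_mem.2 (Ideal.mem_span_singleton_self _)
  let x : E := TrivSqZeroExt.inl tb + TrivSqZeroExt.inr 1
  have hx : x ^ (n + 1) = 0 := by
    refine TrivSqZeroExt.ext ?_ ?_
    · rw [TrivSqZeroExt.fst_pow, show x.fst = tb from add_zero tb, pow_succ, htb, zero_mul]; rfl
    · rw [TrivSqZeroExt.snd_pow, show x.fst = tb from add_zero tb, Nat.pred_succ, htb, zero_smul, smul_zero]; rfl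
  let σ : D →+* E := RingHom.liftOfSurjective (aeval (R := k) τ).toRingHom hD.1
    ⟨(aeval (R := k) x).toRingHom, fun f hf => by
      replace hf : f ∈ Ideal.span {(X : k[X]) ^ (n + 1)} := hD.2.le hf
      obtain ⟨g, rfl⟩ := Ideal.mem_span_singleton.1 hf
      show aeval x ((X : k[X]) ^ (n + 1) * g) = 0
      rw [map_mul, map_pow, aeval_X, hx, zero_mul]⟩
  have hσ : ∀ f, σ (aeval τ f) = aeval (R := k) x f := fun f =>
    RingHom.liftOfRightInverse_comp_apply _ _ _ _ f
  letI : Algebra D E := σ.toAlgebra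
  let F : E →ₐ[D] B' :=
    { (TrivSqZeroExt.fstHom B' B' B').toRingHom with
      commutes' := fun d => by
        obtain ⟨f, rfl⟩ := hD.1 d
        show TrivSqZeroExt.fstHom k B' B' (σ (aeval τ f)) =
          Ideal.Quotient.mkₐ k (Ideal.span {t ^ n}) (algebraMap D B (aeval τ f))
        rw [hσ, ← aeval_algHom_apply, ← aeval_algebraMap_apply, ← ht, ← aeval_algHom_apply]
        exact congrArg (fun y => aeval y f) (show x.fst = _ from add_zero tb) }
  have hF : Function.Surjective F := fun b => ⟨TrivSqZeroExt.inl b, rfl⟩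
  have hnil : IsNilpotent (RingHom.ker (F : E →+* B')) := by
    refine ⟨2, ?_⟩
    rw [Ideal.zero_eq_bot, ← le_bot_iff, Submodule.pow_succ, Submodule.pow_one, Ideal.mul_le]
    intro a ha b hb
    rw [RingHom.mem_ker] at ha hb
    have ha' : a.fst = 0 := ha
    have hb' : b.fst = 0 := hb
    rw [Ideal.mem_bot]
    exact TrivSqZeroExt.ext (show a.fst * b.fst = 0 by rw [ha', zero_mul])
      (show a.fst * b.snd + a.snd * b.fst = 0 by rw [ha', hb', zero_mul, mul_zero, add_zero])
  let l : B →ₐ[D] E := Algebra.FormallySmooth.liftOfSurjective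
    (IsScalarTower.toAlgHom D B B') F hF hnil
  have hl : ∀ b, (l b).fst = Ideal.Quotient.mk _ b := fun b =>
    Algebra.FormallySmooth.liftOfSurjective_apply (IsScalarTower.toAlgHom D B B') F hF hnil b
  let lk : B →ₐ[k] E :=
    { l.toRingHom with
      commutes' := fun c => by
        show l (algebraMap k B c) = algebraMap k E c
        rw [IsScalarTower.algebraMap_apply k D B, l.commutes]
        show σ (algebraMap k D c) = _
        rw [← aeval_C (R := k) τ, hσ, aeval_C] }
  refine ⟨Derivation.mk' ((TrivSqZeroExt.sndHom B' B').restrictScalars k ∘ₗ lk.toLinearMap) fun a b => ?_, ?_⟩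
  · show (l (a * b)).snd = a • (l b).snd + b • (l a).snd
    rw [map_mul]
    show (l a).fst * (l b).snd + (l a).snd * (l b).fst = _
    rw [hl, hl, mul_comm (l a).snd, Algebra.smul_def, Algebra.smul_def]
    rfl
  · show (l t).snd = 1
    have h1 : l t = x := by
      rw [congrArg l ht, l.commutes]
      show σ τ = x
      conv_lhs => rw [← aeval_X (R := k) τ]
      rw [hσ, aeval_X]
    rw [h1]
    exact zero_add (1 : B')

/-- The kernel of the passage to relative differentials. -/
theorem ker_map_eq (hD : IsTrunc (k := k) n τ) (ht : t = algebraMap D B τ) :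
    LinearMap.ker (KaehlerDifferential.map k D B B) =
      LinearMap.range (LinearMap.toSpanSingleton B Ω[B⁄k] (KaehlerDifferential.D k B t)) := by
  rw [← KaehlerDifferential.range_mapBaseChange, LinearMap.range_toSpanSingleton]
  refine le_antisymm ?_ ((Submodule.span_singleton_le_iff_mem _ _).2
    ⟨1 ⊗ₜ KaehlerDifferential.D k D τ, ?_⟩)
  · rintro _ ⟨z, rfl⟩
    induction z using TensorProduct.induction_on with
    | zero => rw [map_zero]; exact zero_mem _
    | add x y hx hy => rw [map_add]; exact add_mem hx hy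
    | tmul b w =>
      rw [KaehlerDifferential.mapBaseChange_tmul]
      refine Submodule.smul_mem _ b ?_
      have hw : w ∈ Submodule.span D (Set.range (KaehlerDifferential.D k D)) := by
        rw [KaehlerDifferential.span_range_derivation]; trivial
      induction hw using Submodule.span_induction with
      | mem y hy =>
        obtain ⟨d, rfl⟩ := hy
        obtain ⟨f, rfl⟩ := hD.1 d
        rw [KaehlerDifferential.map_D, ← aeval_algebraMap_apply, ← ht, Derivation.map_aeval]
        exact Submodule.smul_mem _ _ (Submodule.mem_span_singleton_self _)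
      | zero => rw [map_zero]; exact zero_mem _
      | add x y _ _ hx hy => rw [map_add]; exact add_mem hx hy
      | smul c x _ hx =>
        rw [map_smul, ← algebraMap_smul B c]
        exact Submodule.smul_mem _ _ hx
  · rw [KaehlerDifferential.mapBaseChange_tmul, one_smul, KaehlerDifferential.map_D, ← ht]

variable (k n t)

/-- The first map of the sequence on the reduction. -/
noncomputable abbrev dt : (B ⧸ Ideal.span {t ^ n}) ⊗[B] Ω[B⁄k] :=
  (1 : B ⧸ Ideal.span {t ^ n}) ⊗ₜ[B] KaehlerDifferential.D k B t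

variable {k n t}

theorem exact_dt (hD : IsTrunc (k := k) n τ) (ht : t = algebraMap D B τ) :
    Function.Exact (LinearMap.toSpanSingleton (B ⧸ Ideal.span {t ^ n}) _ (dt k n t))
      (LinearMap.baseChange (B ⧸ Ideal.span {t ^ n}) (KaehlerDifferential.map k D B B)) := by
  have h := lTensor_exact (B ⧸ Ideal.span {t ^ n}) (LinearMap.exact_iff.2 (ker_map_eq hD ht))
    (KaehlerDifferential.map_surjective k D B)
  intro z
  refine (h z).trans ⟨?_, ?_⟩
  · rintro ⟨w, rfl⟩
    induction w using TensorProduct.induction_on with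
    | zero => exact ⟨0, by rw [map_zero, map_zero]⟩
    | add x y hx hy =>
      obtain ⟨a, ha⟩ := hx; obtain ⟨b, hb⟩ := hy
      exact ⟨a + b, by rw [map_add, map_add, ha, hb]⟩
    | tmul c b =>
      refine ⟨b • c, ?_⟩
      rw [LinearMap.toSpanSingleton_apply, LinearMap.lTensor_tmul, LinearMap.toSpanSingleton_apply,
        TensorProduct.smul_tmul', smul_eq_mul, mul_one, TensorProduct.smul_tmul]
  · rintro ⟨c, rfl⟩
    exact ⟨c ⊗ₜ 1, by
      rw [LinearMap.lTensor_tmul, LinearMap.toSpanSingleton_apply, one_smul, LinearMap.toSpanSingleton_apply,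
        TensorProduct.smul_tmul', smul_eq_mul, mul_one]⟩

theorem surjective_baseChange :
    Function.Surjective (LinearMap.baseChange (B ⧸ Ideal.span {t ^ n}) (KaehlerDifferential.map k D B B)) :=
  LinearMap.lTensor_surjective _ (KaehlerDifferential.map_surjective k D B)

theorem exists_retraction (hD : IsTrunc (k := k) n τ) (ht : t = algebraMap D B τ) [Algebra.FormallySmooth D B] :
    ∃ r : (B ⧸ Ideal.span {t ^ n}) ⊗[B] Ω[B⁄k] →ₗ[B ⧸ Ideal.span {t ^ n}] B ⧸ Ideal.span {t ^ n},
      r (dt k n t) = 1 := by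
  obtain ⟨θ, hθ⟩ := exists_derivation hD ht
  exact ⟨θ.liftKaehlerDifferential.liftBaseChange _, by
    rw [LinearMap.liftBaseChange_tmul, one_smul, Derivation.liftKaehlerDifferential_comp_D, hθ]⟩

theorem injective_dt (hD : IsTrunc (k := k) n τ) (ht : t = algebraMap D B τ) [Algebra.FormallySmooth D B] :
    Function.Injective (LinearMap.toSpanSingleton (B ⧸ Ideal.span {t ^ n}) _ (dt k n t)) := by
  obtain ⟨r, hr⟩ := exists_retraction hD ht
  intro a b h
  have h2 := congrArg r h
  rwa [LinearMap.toSpanSingleton_apply, LinearMap.toSpanSingleton_apply, map_smul, map_smul, hr, smul_eq_mul,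
    smul_eq_mul, mul_one, mul_one] at h2

theorem projective_baseChange (hD : IsTrunc (k := k) n τ) (ht : t = algebraMap D B τ) [Algebra.FormallySmooth D B] :
    Module.Projective (B ⧸ Ideal.span {t ^ n}) ((B ⧸ Ideal.span {t ^ n}) ⊗[B] Ω[B⁄k]) := by
  obtain ⟨r, hr⟩ := exists_retraction hD ht
  let e := ((exact_dt hD ht).splitInjectiveEquiv surjective_baseChange ⟨r, LinearMap.ext_ring (by simp [hr])⟩).1
  exact Module.Projective.of_equiv e.symm

theorem mem_span_of_smul_dt (hD : IsTrunc (k := k) n τ) (ht : t = algebraMap D B τ) [Algebra.FormallySmooth D B]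
    {b : B} (h : (Ideal.Quotient.mk (Ideal.span {t ^ n}) b) • dt k n t = 0) : b ∈ Ideal.span {t ^ n} := by
  refine Ideal.Quotient.eq_zero_iff_mem.1 (injective_dt hD ht ?_)
  rw [LinearMap.toSpanSingleton_apply, h, map_zero]

/-- The kernel of `B' ⊗ Ω_{B/k} → Ω_{B'/k}`. -/
theorem mem_ker_mapBaseChange (w : (B ⧸ Ideal.span {t ^ n}) ⊗[B] Ω[B⁄k])
    (h : KaehlerDifferential.mapBaseChange k B (B ⧸ Ideal.span {t ^ n}) w = 0) :
    ∃ g : B, w = 1 ⊗ₜ KaehlerDifferential.D k B (t ^ n * g) := by
  obtain ⟨c, rfl⟩ := (KaehlerDifferential.exact_kerCotangentToTensor_mapBaseChange k B (B ⧸ Ideal.span {t ^ n})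
    Ideal.Quotient.mk_surjective w).1 h
  obtain ⟨⟨c, hc⟩, rfl⟩ := Ideal.toCotangent_surjective _ c
  have hc' : c ∈ Ideal.span {t ^ n} := Ideal.Quotient.eq_zero_iff_mem.1 hc
  obtain ⟨g, rfl⟩ := Ideal.mem_span_singleton.1 hc'
  exact ⟨g, KaehlerDifferential.kerCotangentToTensor_toCotangent ..⟩

theorem injective_mapBaseChange_rel (ht : t = algebraMap D B τ) :
    Function.Injective (KaehlerDifferential.mapBaseChange D B (B ⧸ Ideal.span {t ^ n})) := by
  refine (injective_iff_map_eq_zero _).2 fun w h => ?_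
  obtain ⟨c, rfl⟩ := (KaehlerDifferential.exact_kerCotangentToTensor_mapBaseChange D B (B ⧸ Ideal.span {t ^ n})
    Ideal.Quotient.mk_surjective w).1 h
  obtain ⟨⟨c, hc⟩, rfl⟩ := Ideal.toCotangent_surjective _ c
  have hc' : c ∈ Ideal.span {t ^ n} := Ideal.Quotient.eq_zero_iff_mem.1 hc
  obtain ⟨g, rfl⟩ := Ideal.mem_span_singleton.1 hc'
  rw [KaehlerDifferential.kerCotangentToTensor_toCotangent, Derivation.leibniz, ht, ← map_pow,
    Derivation.map_algebraMap, smul_zero, add_zero, ← TensorProduct.smul_tmul, Algebra.smul_def, mul_one, map_pow,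
    ← ht, Ideal.Quotient.algebraMap_eq, Ideal.Quotient.eq_zero_iff_mem.2 (Ideal.mem_span_singleton_self _),
    TensorProduct.zero_tmul]

theorem isUnit_natCast [CharZero k] (m : ℕ) (hm : m ≠ 0) : IsUnit (m : B) := by
  rw [← map_natCast (algebraMap k B)]
  exact (isUnit_iff_ne_zero.2 (Nat.cast_ne_zero.2 hm)).map _

theorem pow_smul_D_eq_zero [CharZero k] (hD : IsTrunc (k := k) n τ) (ht : t = algebraMap D B τ) :
    t ^ n • KaehlerDifferential.D k B t = 0 := by
  have h : KaehlerDifferential.D k B (t ^ (n + 1)) = 0 := by rw [pow_succ_eq_zero hD ht, map_zero]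
  rw [Derivation.leibniz_pow, Nat.add_sub_cancel, ← Nat.cast_smul_eq_nsmul B, smul_smul] at h
  obtain ⟨v, hv⟩ := isUnit_natCast (k := k) (B := B) (n + 1) (Nat.succ_ne_zero n)
  rw [← hv, ← smul_smul] at h
  rwa [← Units.smul_def, smul_eq_zero_iff_eq] at h

end DefTruncLib
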